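import Groth.Agent.Coherent.K922.FrmW
import Groth.Agent.Fga.QTSub

/-!
# Simpson moduli, node FRM4: the relations of a frame

For a basis `v` of `H⁰(E(N))` the graded submodule of relations `grSub (sysOf v) ⊥` is a point of Quot with Hilbert
polynomial `Φ(d) = P(d + N)`, and `v` generates `E`.
-/

set_option autoImplicit false
universe u

open CategoryTheory CategoryTheory.Limits AlgebraicGeometry MvPolynomial

namespace K922.FrmRel

open Groth.Agent Fga.QTDefs Fga.QT8 Fga.QT4b Fga.QT6a Fga.QT6c Fga.QA0 K585.KronK K585.Defs Fga.QTPull K679.CohBC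

section Gen

variable {n : ℕ} {Y : Scheme.{u}} {g : Y ⟶ PZ n} {A : Type u} [CommRing A] {q : Y ⟶ Spec (CommRingCat.of A)}
  {F : Y.Modules} {a N : ℕ} {v : Fin a → Sec g q F} (hv : ∀ j, v j ∈ TwSec g q F N)

/-- A spanning family of twisted sections of a generated sheaf generates. -/
theorem gen_sysOf (hsp : Submodule.span A (Set.range v) = TwSec g q F N)
    (hgen : ∀ i, Submodule.span Γ(Y, V g i) (Set.range fun t : TwSec g q F N => t.1 i) = ⊤) :
    (sysOf v hv).Gen := by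
  intro i
  rw [eq_top_iff, ← hgen i, Submodule.span_le]
  rintro _ ⟨t, rfl⟩
  have ht : t.1 ∈ Submodule.span A (Set.range v) := by rw [hsp]; exact t.2
  change t.1 i ∈ Submodule.span Γ(Y, V g i) (Set.range ((sysOf v hv).e i))
  generalize t.1 = x at ht
  induction ht using Submodule.span_induction with
  | mem x hx =>
    obtain ⟨j, rfl⟩ := hx
    exact Submodule.subset_span ⟨j, rfl⟩
  | zero => exact Submodule.zero_mem _
  | add x y _ _ hx hy => exact Submodule.add_mem _ hx hy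
  | smul c x _ hx => exact Submodule.smul_mem _ _ hx

/-- The relations of a generating system of a flat module are a point of Quot. -/
theorem isQuotPt_grSub [IsClosedImmersion (toPA g q)] (hF : Coh.IsQCoh F) (hfl : FlatMod.IsFlatOver q F)
    (E : GenSys g F (Fin a) N) (hE : E.Gen) : IsQuotPt (grSub g q E ⊥) := by
  have hK := Fga.QT5.isQCoh_cokernel_bot hF
  obtain ⟨h1, h2⟩ := Fga.QT5.grSub_isHom_isSat g q E hK
  refine ⟨h1, h2, (Fga.QT5.isFlatOver_iff_chartFlat g q E hF hE hK).1 ?_⟩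
  exact Fga.QTSub.isFlatOver_of_iso q
    ((cokernelIsoOfEq Subobject.bot_arrow).trans cokernelZeroIsoTarget).symm hfl

/-- `h` of the base changed relations is the dimension of the twisted sections of the fibre, in large degrees. -/
theorem exists_h_eq [IsClosedImmersion (toPA g q)] {Y' : Scheme.{u}} {g' : Y' ⟶ PZ n} {h : Y' ⟶ Y} (hg : h ≫ g = g')
    {k : Type u} [Field k] {q' : Y' ⟶ Spec (CommRingCat.of k)} {φ : A →+* k}
    (H : IsPullback h q' q (Spec.map (CommRingCat.ofHom φ))) [IsClosedImmersion (toPA g' q')] (hF : Coh.IsQCoh F)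
    (E : GenSys g F (Fin a) N) (hE : E.Gen) :
    ∃ D : ℕ, ∀ d : ℕ, D ≤ d → Fga.QA1.h (bcSat φ (grSub g q E ⊥)) d =
      (Module.finrank k (TwSec g' q' ((Scheme.Modules.pullback h).obj F) (d + N)) : ℤ) := by
  have hK := Fga.QT5.isQCoh_cokernel_bot hF
  have hF' : F.IsQuasicoherent := hF
  have hq : Coh.IsQCoh ((Scheme.Modules.pullback h).obj F) := CohqA.PullbackQCoh.isQuasicoherent_pullback h F
  have h0 : imageSubobject ((Scheme.Modules.pullback h).map (⊥ : Subobject F).arrow ≫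
      (Iso.refl ((Scheme.Modules.pullback h).obj F)).hom) = ⊥ := by
    have h1 : (Scheme.Modules.pullback h).map (⊥ : Subobject F).arrow ≫
        (Iso.refl ((Scheme.Modules.pullback h).obj F)).hom = 0 := by
      rw [Subobject.bot_arrow, Functor.map_zero, zero_comp]
    exact (congrArg (fun ψ => imageSubobject ψ) h1).trans imageSubobject_zero
  have h2 := Fga.QT6b.grSub_pull hg (Iso.refl ((Scheme.Modules.pullback h).obj F)) H hF E hE hK
  rw [h0] at h2
  rw [← h2]
  have hE' : (pull E hg (Iso.refl ((Scheme.Modules.pullback h).obj F))).Gen :=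
    gen_pull hg _ hF (isAffineOpen_V g q) (isAffineOpen_V g' q') hE
  obtain ⟨h3, h4⟩ := Fga.QT5.grSub_isHom_isSat g' q' (pull E hg (Iso.refl ((Scheme.Modules.pullback h).obj F)))
    (Fga.QT5.isQCoh_cokernel_bot hq)
  obtain ⟨Ψ, -, -, h5⟩ := Fga.QA2.field_main h3 h4
  exact ⟨_, fun d hd => (hilb_eq_of_H1 _ hq hE' (h5 d hd).2.2).symm⟩

end Gen

section Fam

variable {k : Type u} [Field k] [IsAlgClosed k] {n : ℕ} {X S : Scheme.{u}} (f : X ⟶ S)
  (sS : S ⟶ Spec (CommRingCat.of k)) (g₀ : X ⟶ PZ n) [IsClosedImmersion (toPS g₀ f)]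
  {P : Polynomial ℚ} {N : ℕ} {B : Type u} [CommRing B] (s : Spec (CommRingCat.of B) ⟶ S)

omit [IsAlgClosed k] in
/-- The input of the kit `K679.CohBC`. -/
theorem exists_setup [LocallyOfFiniteType (s ≫ sS)] (E : (PicF.XT f (Over.mk s)).Modules)
    (hE : RgFam f sS g₀ P N (Over.mk s) E) :
    ∃ c : k →+* B, c.FiniteType ∧ s ≫ sS = Spec.map (CommRingCat.ofHom c) ∧
      ∀ ρ : B →+* k, ρ.comp c = RingHom.id k → FibRg (gT f g₀ (Over.mk s)) (prB f s) E P N ρ := by
  obtain ⟨c, hc⟩ := Spec.map_surjective (s ≫ sS)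
  have hcf : c.hom.FiniteType := by
    have h1 : LocallyOfFiniteType (Spec.map c) := by rw [hc]; infer_instance
    exact (HasRingHomProperty.Spec_iff (P := @LocallyOfFiniteType)).1 h1
  refine ⟨c.hom, hcf, hc.symm, ?_⟩
  intro ρ hρ
  let t : Spec (CommRingCat.of k) ⟶ (Over.mk s).left := Spec.map (CommRingCat.ofHom ρ)
  have ht : t ≫ (Over.mk s).hom ≫ sS = 𝟙 (Spec (CommRingCat.of k)) := by
    change Spec.map (CommRingCat.ofHom ρ) ≫ s ≫ sS = _
    rw [← hc, ← Spec.map_comp, ← Spec.map_id]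
    congr 1
    ext x
    exact congr($hρ x)
  obtain ⟨h1, h2⟩ := hE.rg t ht
  exact ⟨PicF.XT f (Over.mk (t ≫ s)), PicF.XTmap f (Over.homMk t rfl : Over.mk (t ≫ s) ⟶ Over.mk s),
    gT f g₀ (Over.mk (t ≫ s)), prB f (t ≫ s), XTmap_gT f g₀ _, Picfga.HilbPull.isPullback_XTmap f _,
    isClosedImmersion_toPA f g₀ (t ≫ s), h1, h2⟩

/-- The dimension of the twisted sections of the fibres at all field valued points. -/
theorem finrank_fibre [LocallyOfFiniteType (s ≫ sS)] (E : (PicF.XT f (Over.mk s)).Modules)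
    (hE : RgFam f sS g₀ P N (Over.mk s) E) {k' : Type u} [Field k'] (φ : B →+* k')
    {s' : Spec (CommRingCat.of k') ⟶ S} (h : Over.mk s' ⟶ Over.mk s) (hh : h.left = Spec.map (CommRingCat.ofHom φ))
    (m : ℕ) (hm : N ≤ m) :
    (Module.finrank k' (TwSec (gT f g₀ (Over.mk s')) (prB f s')
      ((Scheme.Modules.pullback (PicF.XTmap f h)).obj E) m) : ℚ) = P.eval (m : ℚ) := by
  obtain ⟨c, hc, -, H⟩ := exists_setup f sS g₀ s E hE
  have HP : IsPullback (PicF.XTmap f h) (prB f s') (prB f s) (Spec.map (CommRingCat.ofHom φ)) := by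
    rw [← hh]
    exact Picfga.HilbPull.isPullback_XTmap f h
  have h1 := isBC hc hE.coh hE.flat H (XTmap_gT f g₀ h) HP m hm
  have h2 := fin (g := gT f g₀ (Over.mk s)) (q := prB f s) hc hE.coh m
  have h3 := flat hc hE.coh hE.flat H m hm
  have hp : (RingHom.ker φ).IsPrime := RingHom.ker_isPrime φ
  have h4 := K679.ClosedAlg.rank_of_isBC h1 ⟨RingHom.ker φ, hp⟩ (Or.inl le_rfl)
  have h5 := rank hc hE.coh hE.flat H m hm ⟨RingHom.ker φ, hp⟩
  rw [h4] at h5
  exact h5

/-- NODE FRM4. The relations of a frame. -/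
theorem frame_rel [LocallyOfFiniteType (s ≫ sS)] (E : (PicF.XT f (Over.mk s)).Modules)
    (hE : RgFam f sS g₀ P N (Over.mk s) E) {a : ℕ} {Φ : ℤ → ℤ} (hΦ : ∀ m : ℤ, (Φ m : ℚ) = P.eval (m : ℚ))
    (v : Fin a → Sec (gT f g₀ (Over.mk s)) (prB f s) E) (hv : IsBas (TwSec (gT f g₀ (Over.mk s)) (prB f s) E N) v)
    (hv' : ∀ j, v j ∈ TwSec (gT f g₀ (Over.mk s)) (prB f s) E N) :
    (sysOf v hv').Gen ∧ IsQuotPt (grSub (gT f g₀ (Over.mk s)) (prB f s) (sysOf v hv') ⊥) ∧
      Fga.HilbAsm1.HP (fun d => Φ (d + N)) (grSub (gT f g₀ (Over.mk s)) (prB f s) (sysOf v hv') ⊥) := by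
  have hC := K679.Coh.coh' f sS g₀ s E hE
  have hgen : (sysOf v hv').Gen := gen_sysOf hv' hv.span hC.gen
  refine ⟨hgen, isQuotPt_grSub hE.coh.1 hE.flat _ hgen, fun k' _ φ => ?_⟩
  let h : Over.mk (Spec.map (CommRingCat.ofHom φ) ≫ s) ⟶ Over.mk s := Over.homMk (Spec.map (CommRingCat.ofHom φ)) rfl
  have HP : IsPullback (PicF.XTmap f h) (prB f (Spec.map (CommRingCat.ofHom φ) ≫ s)) (prB f s)
      (Spec.map (CommRingCat.ofHom φ)) := Picfga.HilbPull.isPullback_XTmap f h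
  obtain ⟨D, hD⟩ := exists_h_eq (XTmap_gT f g₀ h) HP hE.coh.1 (sysOf v hv') hgen
  refine ⟨D, fun d hd => ?_⟩
  rw [hD d hd]
  have h1 := finrank_fibre f sS g₀ s E hE φ h rfl (d + N) (Nat.le_add_left N d)
  have h2 := hΦ ((d + N : ℕ) : ℤ)
  have h3 : (((d + N : ℕ) : ℤ) : ℚ) = ((d + N : ℕ) : ℚ) := by norm_cast
  rw [h3, ← h1] at h2
  have h4 : Φ ((d + N : ℕ) : ℤ) = (Module.finrank k' (TwSec (gT f g₀ (Over.mk (Spec.map (CommRingCat.ofHom φ) ≫ s)))
      (prB f (Spec.map (CommRingCat.ofHom φ) ≫ s)) ((Scheme.Modules.pullback (PicF.XTmap f h)).obj E) (d + N)) : ℤ) := by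
    exact_mod_cast h2
  rw [← h4]
  push_cast
  rfl

end Fam

end K922.FrmRel
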