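import Groth.Agent.Coherent.K585.Sur
import Groth.Agent.Coherent.K679.Coh

/-!
# Simpson moduli, node FRM3: frames from bases and surjective Kronecker modules

* `exists_sgL_eq`: if `v` spans `H⁰(F(N))` and multiplication is surjective from degree `N` on, then every element of
  `H⁰(F(N + e))` comes from a vector of polynomials of degree `e`;
* `exists_w`: a basis `v` of `H⁰(F(N))` and a surjective Kronecker module killing the relations of degree `e` between
  the `v_j` are part of a frame.
-/

set_option autoImplicit false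
universe u

open CategoryTheory CategoryTheory.Limits AlgebraicGeometry MvPolynomial

namespace K922.FrmW

open Groth.Agent Fga.QTDefs Fga.QT8 Fga.QT4b Fga.QT6a Fga.QT6c Fga.QA0 K585.KronK K585.Defs K585.Alev K585.Sur

section Gen

variable {n : ℕ} {Y : Scheme.{u}} {g : Y ⟶ PZ n} {A : Type u} [CommRing A] {q : Y ⟶ Spec (CommRingCat.of A)}
  {F : Y.Modules} {a N : ℕ} {v : Fin a → Sec g q F} (hv : ∀ j, v j ∈ TwSec g q F N)

theorem mulL_sgL (p : MvPolynomial (Fin (n + 1)) A) (w : W (Fin (n + 1)) (Fin a) A) :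
    mulL g q F p (sgL q (sysOf v hv) w) = sgL q (sysOf v hv) (p • w) := by
  funext i
  rw [mulL_apply, sgL_apply, sgL_apply, sg_smul]

theorem sgL_single (p : MvPolynomial (Fin (n + 1)) A) (j : Fin a) :
    sgL q (sysOf v hv) (Pi.single j p) = mulL g q F p (v j) := by
  funext i
  rw [sgL_apply, sg_apply, mulL_apply, Finset.sum_eq_single j]
  · rw [Pi.single_eq_same]
    rfl
  · intro j' _ hj
    rw [Pi.single_eq_of_ne hj, map_zero, zero_smul]
  · intro h
    exact absurd (Finset.mem_univ j) h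

theorem mulL_one (x : Sec g q F) : mulL g q F 1 x = x := by
  funext i
  rw [mulL_apply, map_one, one_smul]

/-- Sections of degree `N + e` come from vectors of polynomials of degree `e`. -/
theorem exists_sgL_eq (hsp : Submodule.span A (Set.range v) = TwSec g q F N)
    (hmul : ∀ m, N ≤ m → TwSec g q F (m + 1) ≤ ⨆ j, (TwSec g q F m).map (mulL g q F (X j))) (e : ℕ)
    {x : Sec g q F} (hx : x ∈ TwSec g q F (N + e)) :
    ∃ w ∈ Wd (Fin (n + 1)) (Fin a) A e, sgL q (sysOf v hv) w = x := by
  induction e generalizing x with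
  | zero =>
    have h1 : Submodule.span A (Set.range v) ≤ (Wd (Fin (n + 1)) (Fin a) A 0).map (sgL q (sysOf v hv)) := by
      rw [Submodule.span_le]
      rintro _ ⟨j, rfl⟩
      refine ⟨Pi.single j 1, fun j' => ?_, ?_⟩
      · by_cases h : j' = j
        · subst h
          rw [Pi.single_eq_same]
          exact isHomogeneous_one _ _
        · rw [Pi.single_eq_of_ne h]
          exact isHomogeneous_zero _ _ _
      · rw [sgL_single, mulL_one]
    rw [hsp] at h1
    exact h1 hx
  | succ e ih =>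
    have h1 : (⨆ j, (TwSec g q F (N + e)).map (mulL g q F (X j))) ≤
        (Wd (Fin (n + 1)) (Fin a) A (e + 1)).map (sgL q (sysOf v hv)) := by
      refine iSup_le fun j => ?_
      rintro _ ⟨y, hy, rfl⟩
      obtain ⟨w, hw, rfl⟩ := ih hy
      exact ⟨(X j : MvPolynomial (Fin (n + 1)) A) • w, X_smul_mem_Wd j hw, (mulL_sgL hv _ _).symm⟩
    exact h1 (hmul (N + e) (Nat.le_add_right N e) hx)

/-- `W_e → H⁰(F(N + e))` -/
noncomputable def phi (e : ℕ) : Wd (Fin (n + 1)) (Fin a) A e →ₗ[A] TwSec g q F (N + e) :=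
  ((sgL q (sysOf v hv)).comp (Wd (Fin (n + 1)) (Fin a) A e).subtype).codRestrict _ fun w => by
    have := sgL_mem (q := q) (sysOf v hv) w.2
    rwa [add_comm] at this

theorem phi_coe (e : ℕ) (w : Wd (Fin (n + 1)) (Fin a) A e) : (phi hv e w).1 = sgL q (sysOf v hv) w.1 := rfl

theorem phi_surjective (hsp : Submodule.span A (Set.range v) = TwSec g q F N)
    (hmul : ∀ m, N ≤ m → TwSec g q F (m + 1) ≤ ⨆ j, (TwSec g q F m).map (mulL g q F (X j))) (e : ℕ) :
    Function.Surjective (phi hv e) := by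
  rintro ⟨x, hx⟩
  obtain ⟨w, hw, h⟩ := exists_sgL_eq hv hsp hmul e hx
  exact ⟨⟨w, hw⟩, Subtype.ext h⟩

/-- A basis of a submodule given by a basis of the type. -/
theorem isBas_of_basis {R M ι : Type*} [CommRing R] [AddCommGroup M] [Module R M] {T : Submodule R M}
    (b : Module.Basis ι R T) : IsBas T (fun i => (b i).1) := by
  refine ⟨b.linearIndependent.map' _ (Submodule.ker_subtype _), ?_⟩
  have h1 : (Set.range fun i => (b i).1) = T.subtype '' Set.range b := by
    rw [← Set.range_comp]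
    rfl
  rw [h1, ← Submodule.map_span, b.span_eq, Submodule.map_top, Submodule.range_subtype]

/-- The second basis of a frame. -/
theorem exists_frame_of_sur (hsp : IsBas (TwSec g q F N) v)
    (hmul : ∀ m, N ≤ m → TwSec g q F (m + 1) ≤ ⨆ j, (TwSec g q F m).map (mulL g q F (X j))) {e b : ℕ}
    (hfin : Module.Finite A (TwSec g q F (N + e))) (hproj : Module.Projective A (TwSec g q F (N + e)))
    (hrank : ∀ p : PrimeSpectrum A, Module.rankAtStalk (R := A) (TwSec g q F (N + e)) p = b)
    (α : Kr a b (hn n e) A) (hα : Sur α)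
    (hk : ∀ w ∈ Wd (Fin (n + 1)) (Fin a) A e, sgL q (sysOf v hv) w = 0 → alev α w = 0) :
    ∃ w, IsFrame g q F N e v w α := by
  let φ := phi hv e
  have hφ : Function.Surjective φ := phi_surjective hv hsp.span hmul e
  let ψ : Wd (Fin (n + 1)) (Fin a) A e →ₗ[A] (Fin b → A) := (alev α).comp (Wd (Fin (n + 1)) (Fin a) A e).subtype
  have hψ : Function.Surjective ψ := fun y => by
    obtain ⟨w, hw, h⟩ := hα y
    exact ⟨⟨w, hw⟩, h⟩
  have hker : LinearMap.ker φ ≤ LinearMap.ker ψ := by
    intro w hw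
    exact hk w.1 w.2 (congrArg Subtype.val hw)
  let β : TwSec g q F (N + e) →ₗ[A] (Fin b → A) :=
    ((LinearMap.ker φ).liftQ ψ hker).comp (φ.quotKerEquivOfSurjective hφ).symm.toLinearMap
  have hβ : ∀ w, β (φ w) = ψ w := by
    intro w
    have h1 : (φ.quotKerEquivOfSurjective hφ).symm (φ w) = (LinearMap.ker φ).mkQ w := by
      rw [LinearEquiv.symm_apply_eq]
      rfl
    change ((LinearMap.ker φ).liftQ ψ hker) ((φ.quotKerEquivOfSurjective hφ).symm (φ w)) = _
    rw [h1]
    rfl
  have hβs : Function.Surjective β := fun y => by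
    obtain ⟨w, rfl⟩ := hψ y
    exact ⟨φ w, hβ w⟩
  have hβi : Function.Injective β := by
    refine Fga.QA5.injective_of_surjective_of_rank (fun p => ?_) β hβs
    have : Nontrivial A := ⟨⟨0, 1, fun h => p.isPrime.ne_top (by
      rw [Ideal.eq_top_iff_one, ← h]
      exact zero_mem _)⟩⟩
    rw [hrank, Module.rankAtStalk_eq_finrank_of_free]
    simp
  let β' : TwSec g q F (N + e) ≃ₗ[A] (Fin b → A) := LinearEquiv.ofBijective β ⟨hβi, hβs⟩
  let bs : Module.Basis (Fin b) A (TwSec g q F (N + e)) := (Pi.basisFun A (Fin b)).map β'.symm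
  refine ⟨fun k => (bs k).1, hsp, isBas_of_basis bs, fun l j => ?_⟩
  have h1 : tens l (Pi.single j (1 : A)) = (Pi.single j (monomial (mu n e l).1 1) : W (Fin (n + 1)) (Fin a) A) := by
    funext j'
    rw [tens]
    by_cases h : j' = j
    · subst h
      rw [Pi.single_eq_same, Pi.single_eq_same]
    · rw [Pi.single_eq_of_ne h, Pi.single_eq_of_ne h, map_zero]
  let w0 : Wd (Fin (n + 1)) (Fin a) A e := ⟨tens l (Pi.single j (1 : A)), tens_mem l _⟩
  have h2 : (φ w0).1 = mulL g q F (monomial (mu n e l).1 1) (v j) := by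
    rw [← sgL_single hv, ← h1]
    rfl
  have h3 : φ w0 = ∑ k, α l k j • bs k := by
    apply hβi
    rw [hβ, map_sum]
    have h4 : ∀ k, β (α l k j • bs k) = α l k j • Pi.single k 1 := fun k => by
      rw [map_smul]
      have h5 : β (bs k) = Pi.single k 1 := by
        have h6 : bs k = β'.symm (Pi.single k 1) := by
          rw [Module.Basis.map_apply, Pi.basisFun_apply]
        rw [h6]
        exact β'.apply_symm_apply _
      rw [h5]
    rw [Finset.sum_congr rfl fun k _ => h4 k]
    change alev α (tens l (Pi.single j (1 : A))) = _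
    rw [alev_tens, Matrix.mulVec_single_one]
    funext k
    rw [Finset.sum_apply, Finset.sum_eq_single k]
    · rw [Pi.smul_apply, Pi.single_eq_same, smul_eq_mul, mul_one]
      rfl
    · intro k' _ hk'
      rw [Pi.smul_apply, Pi.single_eq_of_ne hk'.symm, smul_zero]
    · intro h
      exact absurd (Finset.mem_univ k) h
  rw [← h2, h3]
  rw [Submodule.coe_sum]
  rfl

end Gen

section Fam

variable {k : Type u} [Field k] [IsAlgClosed k] {n : ℕ} {X S : Scheme.{u}} (f : X ⟶ S)
  (sS : S ⟶ Spec (CommRingCat.of k)) (g₀ : X ⟶ PZ n) [IsClosedImmersion (toPS g₀ f)]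
  {P : Polynomial ℚ} {N : ℕ} {B : Type u} [CommRing B] (s : Spec (CommRingCat.of B) ⟶ S)

/-- NODE FRM3. A basis `v` of `TwSec E N` and a surjective Kronecker module `α` killing the relations of degree `e` between
the `v_j` are part of a frame. -/
theorem exists_w [LocallyOfFiniteType (s ≫ sS)] (E : (PicF.XT f (Over.mk s)).Modules)
    (hE : RgFam f sS g₀ P N (Over.mk s) E) {e a b : ℕ} (hb : (b : ℚ) = P.eval ((N + e : ℕ) : ℚ))
    (v : Fin a → Sec (gT f g₀ (Over.mk s)) (prB f s) E) (hv : IsBas (TwSec (gT f g₀ (Over.mk s)) (prB f s) E N) v)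
    (hv' : ∀ j, v j ∈ TwSec (gT f g₀ (Over.mk s)) (prB f s) E N) (α : Kr a b (hn n e) B) (hα : Sur α)
    (hk : ∀ w ∈ Wd (Fin (n + 1)) (Fin a) B e, sgL (prB f s) (sysOf v hv') w = 0 → alev α w = 0) :
    ∃ w, IsFrame (gT f g₀ (Over.mk s)) (prB f s) E N e v w α := by
  have hC := K679.Coh.coh' f sS g₀ s E hE
  refine exists_frame_of_sur hv' hv hC.mul (hC.fin _ (Nat.le_add_right N e)) (hC.proj _ (Nat.le_add_right N e))
    (fun p => ?_) α hα hk
  have h1 := hC.rank _ (Nat.le_add_right N e) p
  rw [← hb] at h1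
  exact_mod_cast h1

end Fam

end K922.FrmW
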